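import Groth.Agent.AVFMTranslate.Modules
import Groth.Agent.AVDualExist.Data
import Groth.Agent.AVFieldDual.Poincare
import Groth.Agent.Lib.AVDual

/-!
# Translates of the Poincaré class
-/

noncomputable section

set_option autoImplicit false
set_option linter.style.haveILetI false
set_option linter.unusedSectionVars false
set_option backward.isDefEq.respectTransparency false
set_option backward.isDefEq.respectTransparency.types false

universe u

open CategoryTheory MonoidalCategory CartesianMonoidalCategory MonObj AlgebraicGeometry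

namespace Groth.Agent.AVFMTranslate

open Groth.Agent Groth.Agent.H23 Groth.Agent.AVPair
open scoped Groth.Agent.H23.PicMul

variable {k : Type u} [Field k] {A At : Over (Spec (CommRingCat.of k))} [GrpObj A] [IsProper A.hom]
  [Smooth A.hom] [GeometricallyConnected A.hom] [GrpObj At] [IsProper At.hom] [Smooth At.hom]
  [GeometricallyConnected At.hom] {φ : ∀ T : Over (Spec (CommRingCat.of k)), PicF.Cl (PicF.XT A.hom T) → (T ⟶ At)}
  (hφ : AbDual.IsDualAV Scheme.fppfPrecoverage A At φ) {ξ : PicF.Cl (A ⊗ At).left}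
  (hξ : AbDual.IsPoincareCl A At φ ξ)

/-- Opposite translations cancel. -/
theorem trans_inv {G : Over (Spec (CommRingCat.of k))} [GrpObj G] [IsCommMonObj G]
    (x : 𝟙_ (Over (Spec (CommRingCat.of k))) ⟶ G) :
    (𝟙 G * (toUnit G ≫ x)) ≫ (𝟙 G * (toUnit G ≫ x⁻¹)) = 𝟙 G := by
  rw [MonObj.comp_mul, Category.comp_id, ← Category.assoc, comp_toUnit, _root_.mul_assoc, ← MonObj.comp_mul,
    mul_inv_cancel, MonObj.comp_one, _root_.mul_one]

include hφ hξ

/-- Translating the dual variable twists by the fibre. -/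
theorem pl_translate_snd (x : 𝟙_ (Over (Spec (CommRingCat.of k))) ⟶ At) :
    pl (A ◁ (𝟙 At * (toUnit At ≫ x))) ξ = pl (fst A At) (pl (lift (𝟙 A) (toUnit A ≫ x)) ξ) * ξ := by
  haveI := AVDual.geometricallyIntegral_of_smooth A
  haveI := AVDual.geometricallyIntegral_of_smooth At
  obtain ⟨h1, h2⟩ := AVDual.poincare_axes hφ hξ
  have hinv : PicF.IsInvertibleCl ξ := AVDual.pz_invertible hξ.1
  rw [show A ◁ (𝟙 At * (toUnit At ≫ x)) = lift (fst A At) ((snd A At ≫ 𝟙 At) * (snd A At ≫ toUnit At ≫ x)) from
      CartesianMonoidalCategory.hom_ext _ _ (by simp) (by simp [MonObj.comp_mul]),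
    add_right hinv h1 h2, Category.comp_id, lift_fst_snd, pl_id, _root_.mul_comm, pl_pl]
  congr 2
  rw [comp_lift, Category.comp_id, ← Category.assoc, ← Category.assoc,
    toUnit_unique (snd A At ≫ toUnit At) (fst A At ≫ toUnit A)]

/-- Translating the variety twists by the fibre of the point. -/
theorem pl_translate_fst (a : 𝟙_ (Over (Spec (CommRingCat.of k))) ⟶ A) :
    pl ((𝟙 A * (toUnit A ≫ a)) ▷ At) ξ = pl (snd A At) (pl (lift (toUnit At ≫ a) (𝟙 At)) ξ) * ξ := by
  haveI := AVDual.geometricallyIntegral_of_smooth A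
  haveI := AVDual.geometricallyIntegral_of_smooth At
  obtain ⟨h1, h2⟩ := AVDual.poincare_axes hφ hξ
  have hinv : PicF.IsInvertibleCl ξ := AVDual.pz_invertible hξ.1
  rw [show (𝟙 A * (toUnit A ≫ a)) ▷ At = lift ((fst A At ≫ 𝟙 A) * (fst A At ≫ toUnit A ≫ a)) (snd A At) from
      CartesianMonoidalCategory.hom_ext _ _ (by simp [MonObj.comp_mul]) (by simp),
    add_left hinv h1 h2, Category.comp_id, lift_fst_snd, pl_id, _root_.mul_comm, pl_pl]
  congr 2
  rw [comp_lift, Category.comp_id, ← Category.assoc, ← Category.assoc,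
    toUnit_unique (snd A At ≫ toUnit At) (fst A At ≫ toUnit A)]

end Groth.Agent.AVFMTranslate
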