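import Groth.Agent.KFlatLib.Scheme.RpushRestrict
import Groth.Agent.AmpleVan.Tw
import Groth.Agent.RGLib.Lim8Exact
import Groth.Agent.KFlatLib.Mate
import Groth.Agent.KFlatLib.Scheme.ProjModule
import Groth.Agent.KFlatLib.Scheme.RestrictHom

/-!
# Exact functors against derived functors of pullback, tensor and pushforward
-/

noncomputable section

set_option linter.style.haveILetI false
set_option linter.unusedSectionVars false
set_option backward.isDefEq.respectTransparency false

universe u

open CategoryTheory CategoryTheory.Limits AlgebraicGeometry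

attribute [local instance] HasDerivedCategory.standard

namespace Groth.Agent.AVFMTranslate

open Groth.Agent

variable {X Y Z X' Y' : Scheme.{u}}

/-- Composites of exact functors on derived categories. -/
def compD (F : X.Modules ⥤ Y.Modules) (G : Y.Modules ⥤ Z.Modules) (H : X.Modules ⥤ Z.Modules)
    [F.Additive] [PreservesFiniteLimits F] [PreservesFiniteColimits F]
    [G.Additive] [PreservesFiniteLimits G] [PreservesFiniteColimits G]
    [H.Additive] [PreservesFiniteLimits H] [PreservesFiniteColimits H] (e : F ⋙ G ≅ H) :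
    F.mapDerivedCategory ⋙ G.mapDerivedCategory ≅ H.mapDerivedCategory :=
  Localization.liftNatIso DerivedCategory.Qh (HomotopyCategory.quasiIso X.Modules (ComplexShape.up ℤ))
    (DerivedCategory.Qh ⋙ F.mapDerivedCategory ⋙ G.mapDerivedCategory)
    (H.mapHomotopyCategory (ComplexShape.up ℤ) ⋙ DerivedCategory.Qh) _ _
    ((Functor.associator _ _ _).symm ≪≫ Functor.isoWhiskerRight F.mapDerivedCategoryFactorsh _ ≪≫
      Functor.associator _ _ _ ≪≫ Functor.isoWhiskerLeft _ G.mapDerivedCategoryFactorsh ≪≫
      (Functor.associator _ _ _).symm ≪≫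
      Functor.isoWhiskerRight (Functor.mapHomotopyCategoryCompIso e (ComplexShape.up ℤ)) _)

/-- Isomorphic exact functors agree on derived categories. -/
def congrD (F H : X.Modules ⥤ Y.Modules)
    [F.Additive] [PreservesFiniteLimits F] [PreservesFiniteColimits F]
    [H.Additive] [PreservesFiniteLimits H] [PreservesFiniteColimits H] (e : F ≅ H) :
    F.mapDerivedCategory ≅ H.mapDerivedCategory :=
  Localization.liftNatIso DerivedCategory.Q (HomologicalComplex.quasiIso X.Modules (ComplexShape.up ℤ))
    (F.mapHomologicalComplex (ComplexShape.up ℤ) ⋙ DerivedCategory.Q)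
    (H.mapHomologicalComplex (ComplexShape.up ℤ) ⋙ DerivedCategory.Q) _ _
    (Functor.isoWhiskerRight (NatIso.mapHomologicalComplex e _) _)

/-- A left derived functor of an exact functor. -/
theorem nonempty_totalLeftDerived (F : X.Modules ⥤ Y.Modules)
    [F.Additive] [PreservesFiniteLimits F] [PreservesFiniteColimits F]
    [(F.mapHomotopyCategory (ComplexShape.up ℤ) ⋙ DerivedCategory.Qh).HasLeftDerivedFunctor
      (HomotopyCategory.quasiIso X.Modules (ComplexShape.up ℤ))] :
    Nonempty ((F.mapHomotopyCategory (ComplexShape.up ℤ) ⋙ DerivedCategory.Qh).totalLeftDerived DerivedCategory.Qh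
      (HomotopyCategory.quasiIso X.Modules (ComplexShape.up ℤ)) ≅ F.mapDerivedCategory) := by
  haveI := Functor.isLeftDerivedFunctor_of_inverts (HomotopyCategory.quasiIso X.Modules (ComplexShape.up ℤ))
    F.mapDerivedCategory F.mapDerivedCategoryFactorsh
  exact ⟨Functor.leftDerivedUnique _ _
    ((F.mapHomotopyCategory (ComplexShape.up ℤ) ⋙ DerivedCategory.Qh).totalLeftDerivedCounit DerivedCategory.Qh
      (HomotopyCategory.quasiIso X.Modules (ComplexShape.up ℤ)))
    F.mapDerivedCategoryFactorsh.hom (HomotopyCategory.quasiIso X.Modules (ComplexShape.up ℤ))⟩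

/-- `Lf^*` for flat `f`. -/
theorem nonempty_lpull (f : X ⟶ Y) [PreservesFiniteLimits (Scheme.Modules.pullback f)]
    [PreservesFiniteColimits (Scheme.Modules.pullback f)] [DCoh.HasLpull f] :
    Nonempty (DCoh.Lpull f ≅ (Scheme.Modules.pullback f).mapDerivedCategory) :=
  nonempty_totalLeftDerived _

/-- `⊗^L` by a module tensoring exactly. -/
theorem nonempty_ltensor (M : X.Modules) [PreservesFiniteLimits (DCoh.tensorRightMod M)]
    [PreservesFiniteColimits (DCoh.tensorRightMod M)] [DCoh.HasLTensorMod M] :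
    Nonempty (DCoh.LTensorMod M ≅ (DCoh.tensorRightMod M).mapDerivedCategory) :=
  nonempty_totalLeftDerived _

/-- A right adjoint of an exact functor preserves K-injectivity. -/
theorem isKInjective_of_adjunction {L : X'.Modules ⥤ X.Modules} {R : X.Modules ⥤ X'.Modules}
    [L.Additive] [R.Additive] [PreservesFiniteLimits L] [PreservesFiniteColimits L] (adj : L ⊣ R)
    (I : CochainComplex X.Modules ℤ) [I.IsKInjective] :
    CochainComplex.IsKInjective ((R.mapHomologicalComplex (ComplexShape.up ℤ)).obj I) where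
  nonempty_homotopy_zero {K} g hK := by
    let A := KFlatLib.adjCx adj (ComplexShape.up ℤ)
    have hK' : ((L.mapHomologicalComplex (ComplexShape.up ℤ)).obj K).Acyclic := fun i => (hK i).map L
    obtain ⟨h⟩ := CochainComplex.IsKInjective.nonempty_homotopy_zero ((A.homEquiv K I).symm g) hK'
    refine ⟨(Homotopy.ofEq ?_).trans (((R.mapHomotopy h).compLeft
      (A.unit.app K)).trans (Homotopy.ofEq (by rw [Functor.map_zero, comp_zero])))⟩
    exact (A.homEquiv_unit _ _ _).symm.trans ((A.homEquiv K I).apply_symm_apply g) |>.symm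

/-- **`Rf_*` commutes with exact functors whose source side preserves K-injectives.** -/
theorem nonempty_rpush_exchange (f : X ⟶ Y) (f' : X' ⟶ Y') (L : X'.Modules ⥤ X.Modules)
    (R : X.Modules ⥤ X'.Modules) (S : Y.Modules ⥤ Y'.Modules)
    [L.Additive] [PreservesFiniteLimits L] [PreservesFiniteColimits L]
    [R.Additive] [PreservesFiniteLimits R] [PreservesFiniteColimits R]
    [S.Additive] [PreservesFiniteLimits S] [PreservesFiniteColimits S] (adj : L ⊣ R)
    (e : Scheme.Modules.pushforward f ⋙ S ≅ R ⋙ Scheme.Modules.pushforward f')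
    [DCoh.HasRpush f] [DCoh.HasRpush f'] :
    Nonempty (DCoh.Rpush f ⋙ S.mapDerivedCategory ≅ R.mapDerivedCategory ⋙ DCoh.Rpush f') := by
  haveI := TriCat.qh_isLeftAdjoint_of_exists_resolution (A := X.Modules) KFlatLib.exists_kInjective_res
  let adjQ := Adjunction.ofIsLeftAdjoint (DerivedCategory.Qh (C := X.Modules))
  let ρ := (DerivedCategory.Qh (C := X.Modules)).rightAdjoint
  let W := HomotopyCategory.quasiIso X.Modules (ComplexShape.up ℤ)
  haveI : (ρ ⋙ DCoh.pushKh f).IsRightDerivedFunctor
      (Functor.whiskerRight adjQ.unit (DCoh.pushKh f)) W :=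
    TriCat.isRightDerivedFunctor_of_adjunction adjQ W (DCoh.pushKh f)
  let e₀ : ρ ⋙ DCoh.pushKh f ≅ DCoh.Rpush f :=
    Functor.rightDerivedUnique _ _ (Functor.whiskerRight adjQ.unit (DCoh.pushKh f))
      ((DCoh.pushKh f).totalRightDerivedUnit DerivedCategory.Qh W) W
  let K := R.mapHomotopyCategory (ComplexShape.up ℤ)
  let β := (DCoh.pushKh f').totalRightDerivedUnit DerivedCategory.Qh
    (HomotopyCategory.quasiIso X'.Modules (ComplexShape.up ℤ))
  let c := ComplexShape.up ℤ
  let eKh : DCoh.pushKh f ⋙ S.mapDerivedCategory ≅ K ⋙ DCoh.pushKh f' :=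
    Functor.associator _ _ _ ≪≫
    Functor.isoWhiskerLeft _ S.mapDerivedCategoryFactorsh ≪≫
    (Functor.associator _ _ _).symm ≪≫
    Functor.isoWhiskerRight (Functor.mapHomotopyCategoryCompIso e c ≪≫
      (Functor.mapHomotopyCategoryCompIso (Iso.refl (R ⋙ Scheme.Modules.pushforward f')) c).symm)
      DerivedCategory.Qh ≪≫
    Functor.associator _ _ _
  let γ : (ρ ⋙ K) ⋙ DerivedCategory.Qh ⟶ R.mapDerivedCategory :=
    (Functor.associator _ _ _).hom ≫ Functor.whiskerLeft ρ R.mapDerivedCategoryFactorsh.inv ≫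
      (Functor.associator _ _ _).inv ≫ Functor.whiskerRight adjQ.counit R.mapDerivedCategory ≫
      (Functor.leftUnitor _).hom
  let δ : ρ ⋙ K ⋙ DCoh.pushKh f' ⟶ R.mapDerivedCategory ⋙ DCoh.Rpush f' :=
    (Functor.associator _ _ _).inv ≫ Functor.whiskerLeft (ρ ⋙ K) β ≫ (Functor.associator _ _ _).inv ≫
      Functor.whiskerRight γ (DCoh.Rpush f')
  haveI : ∀ E, IsIso (δ.app E) := fun E => by
    obtain ⟨I, s, hI, hs⟩ := KFlatLib.exists_kInjective_res (DerivedCategory.Q.objPreimage E)
    haveI := hs
    let qI := (HomotopyCategory.quotient X.Modules (ComplexShape.up ℤ)).obj I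
    let i : DerivedCategory.Qh.obj qI ≅ E :=
      (DerivedCategory.quotientCompQhIso X.Modules).app I ≪≫
        (asIso (DerivedCategory.Q.map s)).symm ≪≫ DerivedCategory.Q.objObjPreimageIso E
    refine (NatTrans.isIso_app_iff_of_iso δ i).1 ?_
    haveI : IsIso (adjQ.unit.app qI) := by
      refine isIso_iff_yoneda_map_bijective _ |>.2 fun A => ?_
      have hb := ((adjQ.homEquiv A (DerivedCategory.Qh.obj qI)).bijective).comp
        (CochainComplex.IsKInjective.Qh_map_bijective A I)
      have h : (fun φ : A ⟶ qI => φ ≫ adjQ.unit.app qI) =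
          (adjQ.homEquiv A (DerivedCategory.Qh.obj qI)) ∘ DerivedCategory.Qh.map :=
        funext fun φ => (adjQ.unit.naturality φ).trans (adjQ.homEquiv_unit ..).symm
      exact h ▸ hb
    haveI : IsIso (adjQ.counit.app (DerivedCategory.Qh.obj qI)) :=
      IsIso.of_isIso_fac_left (adjQ.left_triangle_components qI)
    haveI := isKInjective_of_adjunction adj I
    have h1 := KFlatLib.isIso_unit_of_kInjective f' ((R.mapHomologicalComplex (ComplexShape.up ℤ)).obj I)
    haveI : IsIso (β.app (K.obj (ρ.obj (DerivedCategory.Qh.obj qI)))) :=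
      (NatTrans.isIso_app_iff_of_iso β
        (((R.mapHomotopyCategoryFactors (ComplexShape.up ℤ)).app I).symm ≪≫
          K.mapIso (asIso (adjQ.unit.app qI)))).1 h1
    haveI : IsIso (γ.app (DerivedCategory.Qh.obj qI)) := by
      simp only [γ, NatTrans.comp_app, Functor.whiskerLeft_app, Functor.whiskerRight_app,
        Functor.associator_hom_app, Functor.associator_inv_app, Functor.leftUnitor_hom_app]
      refine IsIso.comp_isIso' (Iso.refl _).isIso_hom (IsIso.comp_isIso' ?_
        (IsIso.comp_isIso' (Iso.refl _).isIso_hom (IsIso.comp_isIso' ?_ (Iso.refl _).isIso_hom)))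
      · exact (R.mapDerivedCategoryFactorsh.symm.app (ρ.obj (DerivedCategory.Qh.obj qI))).isIso_hom
      · exact Functor.map_isIso R.mapDerivedCategory _
    simp only [δ, NatTrans.comp_app, Functor.whiskerLeft_app, Functor.whiskerRight_app,
      Functor.associator_inv_app, Functor.comp_obj]
    infer_instance
  haveI := NatIso.isIso_of_isIso_app δ
  exact ⟨Functor.isoWhiskerRight e₀.symm _ ≪≫ Functor.associator _ _ _ ≪≫
    Functor.isoWhiskerLeft ρ eKh ≪≫ asIso δ⟩

end Groth.Agent.AVFMTranslate
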