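import Groth.Agent.AVFMTranslate.Modules
import Groth.Agent.DerBC7.Main
import Groth.Agent.DerBC7.LpullFlat
import Groth.Agent.ZeroSchX.Basic
import Groth.Agent.KFlatLib.Scheme.ProjLocFree
import Groth.Agent.FibSiteLib.DerivedRetract

/-!
# Flat base change, and modules in degree zero
-/

noncomputable section

set_option linter.style.haveILetI false
set_option linter.unusedSectionVars false
set_option backward.isDefEq.respectTransparency false

universe u

open CategoryTheory AlgebraicGeometry
open CategoryTheory.Limits (PreservesFiniteLimits PreservesFiniteColimits IsZero)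

attribute [local instance] HasDerivedCategory.standard

namespace Groth.Agent.AVFMTranslate

open Groth.Agent

variable {X S X' S' : Scheme.{u}}

/-- An exact functor on a module in degree zero. -/
def singleD (F : X.Modules ⥤ S.Modules) [F.Additive] [PreservesFiniteLimits F] [PreservesFiniteColimits F]
    (M : X.Modules) : F.mapDerivedCategory.obj (DCoh.inD X M) ≅ DCoh.inD S (F.obj M) :=
  (F.mapDerivedCategorySingleFunctor 0).app M

theorem isQCohD_inD {M : X.Modules} (hM : Coh.IsQCoh M) : DCoh.IsQCohD (DCoh.inD X M) := fun i => by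
  by_cases hi : i = 0
  · subst hi
    exact KFlatLib.isQCoh_of_iso ((DerivedCategory.singleFunctorCompHomologyFunctorIso X.Modules 0).app M).symm hM
  · haveI : (DCoh.inD X M).IsGE 0 := inferInstance
    haveI : (DCoh.inD X M).IsLE 0 := inferInstance
    rcases lt_or_gt_of_ne hi with h | h
    · exact KFlatLib.isQCoh_of_isZero (DerivedCategory.isZero_of_isGE _ 0 i h)
    · exact KFlatLib.isQCoh_of_isZero (DerivedCategory.isZero_of_isLE _ 0 i h)

variable {f : X ⟶ S} {g : S' ⟶ S} {f' : X' ⟶ S'} {g' : X' ⟶ X}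

/-- Flat base change for one module. -/
theorem nonempty_flat_bc_single (h : CategoryTheory.IsPullback g' f' f g) [QuasiCompact f] [QuasiSeparated f] [Flat g]
    [DCoh.HasRpush f] [DCoh.HasRpush f']
    [PreservesFiniteLimits (Scheme.Modules.pullback g')] [PreservesFiniteColimits (Scheme.Modules.pullback g')]
    [PreservesFiniteLimits (Scheme.Modules.pullback g)] [PreservesFiniteColimits (Scheme.Modules.pullback g)]
    {M : X.Modules} (hM : Coh.IsQCoh M) :
    Nonempty ((Scheme.Modules.pullback g).mapDerivedCategory.obj ((DCoh.Rpush f).obj (DCoh.inD X M)) ≅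
      (DCoh.Rpush f').obj (DCoh.inD X' ((Scheme.Modules.pullback g').obj M))) := by
  haveI := KFlatLib.hasRpush_scheme g
  haveI := KFlatLib.hasRpush_scheme g'
  haveI := KFlatLib.hasLpull g
  haveI := KFlatLib.hasLpull g'
  obtain ⟨adjg⟩ := KFlatLib.nonempty_lpull_rpush_adj g
  obtain ⟨adjg'⟩ := KFlatLib.nonempty_lpull_rpush_adj g'
  obtain ⟨e, he⟩ := DerBC7.exists_flat_baseChange_iso h adjg adjg'
  haveI := he _ (isQCohD_inD hM)
  obtain ⟨l⟩ := nonempty_lpull g
  obtain ⟨l'⟩ := nonempty_lpull g'
  exact ⟨(l.app _).symm ≪≫ asIso (DCoh.baseChangeApp adjg adjg' e _) ≪≫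
    (DCoh.Rpush f').mapIso (l'.app _ ≪≫ singleD _ M)⟩

/-- Pushforward is unchanged by an automorphism over the base. -/
theorem nonempty_rpush_auto (f : X ⟶ S) (σ : X ⟶ X) [IsIso σ] (h : σ ≫ f = f) [DCoh.HasRpush f]
    [PreservesFiniteLimits (Scheme.Modules.pullback σ)] [PreservesFiniteColimits (Scheme.Modules.pullback σ)]
    [PreservesFiniteLimits (Scheme.Modules.pushforward σ)] [PreservesFiniteColimits (Scheme.Modules.pushforward σ)] :
    Nonempty (DCoh.Rpush f ≅ (Scheme.Modules.pullback σ).mapDerivedCategory ⋙ DCoh.Rpush f) := by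
  obtain ⟨ex⟩ := nonempty_rpush_exchange f f (Scheme.Modules.pushforward σ) (Scheme.Modules.pullback σ) (𝟭 _)
    (pushPullAdj σ)
    (Functor.rightUnitor _ ≪≫ (Functor.isoWhiskerRight (pullIsoPush σ) _ ≪≫
      Scheme.Modules.pushforwardComp (inv σ) f ≪≫
      Scheme.Modules.pushforwardCongr (by rw [IsIso.inv_comp_eq, h])).symm)
  exact ⟨(Functor.rightUnitor _).symm ≪≫
    Functor.isoWhiskerLeft _ (FibSiteLib.DerivedRetract.idIso S.Modules).symm ≪≫ ex⟩

end Groth.Agent.AVFMTranslate
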