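import Groth.Agent.AVFMTranslate.Derived

/-!
# Module-level exchanges for twists and isomorphisms
-/

noncomputable section

set_option linter.style.haveILetI false
set_option linter.unusedSectionVars false
set_option backward.isDefEq.respectTransparency false
set_option backward.isDefEq.respectTransparency.types false

universe u

open CategoryTheory AlgebraicGeometry
open CategoryTheory.Limits (PreservesFiniteLimits PreservesFiniteColimits)

namespace Groth.Agent.AVFMTranslate

open Groth.Agent Scheme.Modules

variable {X Y X' Y' : Scheme.{u}}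

/-- The two spellings of tensoring on the right. -/
def trIso (P : X.Modules) : DCoh.tensorRightMod P ≅ AmpleVan.tw P :=
  NatIso.ofComponents (fun _ => Iso.refl _) (fun f => (Category.comp_id _).trans (Category.id_comp _).symm)

theorem isEquivalence_tr {P : X.Modules} (hP : PicF.IsInvertible P) : (DCoh.tensorRightMod P).IsEquivalence :=
  haveI := AmpleVan.isEquivalence_tw hP
  Functor.isEquivalence_of_iso (trIso P).symm

/-- Successive twists. -/
def trComp (P Q : X.Modules) :
    DCoh.tensorRightMod P ⋙ DCoh.tensorRightMod Q ≅ DCoh.tensorRightMod (CohB1.tensorMod P Q) :=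
  Functor.isoWhiskerRight (trIso P) _ ≪≫ Functor.isoWhiskerLeft _ (trIso Q) ≪≫ AmpleVan.twComp P Q ≪≫
    (trIso _).symm

/-- Twists by isomorphic modules. -/
def trCongr {P Q : X.Modules} (e : P ≅ Q) : DCoh.tensorRightMod P ≅ DCoh.tensorRightMod Q :=
  trIso P ≪≫ (DCoh.tensorBi (X := X)).flip.mapIso e ≪≫ (trIso Q).symm

/-- Pullback of a twist, on the bifunctor. -/
def twPull (f : X ⟶ Y) (P : Y.Modules) :
    AmpleVan.tw P ⋙ pullback f ≅ pullback f ⋙ AmpleVan.tw ((pullback f).obj P) :=
  NatIso.ofComponents (fun L => ((KFlatLib.pullTensorBiIso f).app L).app P)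
    (fun φ => NatTrans.congr_app ((KFlatLib.pullTensorBiIso f).hom.naturality φ) P)

/-- Pullback of a twist. -/
def trPull (f : X ⟶ Y) (P : Y.Modules) :
    DCoh.tensorRightMod P ⋙ pullback f ≅ pullback f ⋙ DCoh.tensorRightMod ((pullback f).obj P) :=
  Functor.isoWhiskerRight (trIso P) _ ≪≫ twPull f P ≪≫ Functor.isoWhiskerLeft _ (trIso _).symm

/-- The projection formula on modules, for an invertible module. -/
theorem nonempty_trPush (f : X ⟶ Y) {N : Y.Modules} (hN : PicF.IsInvertible N) :
    Nonempty (pushforward f ⋙ DCoh.tensorRightMod N ≅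
      DCoh.tensorRightMod ((pullback f).obj N) ⋙ pushforward f) := by
  let η : pushforward f ⋙ AmpleVan.tw N ⟶ AmpleVan.tw ((pullback f).obj N) ⋙ pushforward f :=
    { app := fun M => KFlatLib.projMod f M N
      naturality := fun M M' g => KFlatLib.projMod_naturality_left f g N }
  haveI := AmpleVan.isEquivalence_tw hN
  haveI := AmpleVan.isEquivalence_tw (PicClLib.isInvertible_pullback f hN)
  let α : AmpleVan.tw N ⋙ pullback f ≅ pullback f ⋙ AmpleVan.tw ((pullback f).obj N) :=
    NatIso.ofComponents (fun L => ((KFlatLib.pullTensorBiIso f).app L).app N)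
      (fun φ => NatTrans.congr_app ((KFlatLib.pullTensorBiIso f).hom.naturality φ) N)
  haveI : ∀ M, IsIso (η.app M) := fun M =>
    KFlatLib.isIso_mate (pullbackPushforwardAdjunction f) α M
  haveI := NatIso.isIso_of_isIso_app η
  exact ⟨Functor.isoWhiskerLeft _ (trIso N) ≪≫ asIso η ≪≫ Functor.isoWhiskerRight (trIso _).symm _⟩

/-- Pushforward along an isomorphism, as an equivalence. -/
def pushEquiv (s : X ⟶ Y) [IsIso s] : X.Modules ≌ Y.Modules :=
  CategoryTheory.Equivalence.mk (pushforward s) (pushforward (inv s))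
    ((pushforwardComp s (inv s) ≪≫ pushforwardCongr (IsIso.hom_inv_id s) ≪≫ pushforwardId X).symm)
    (pushforwardComp (inv s) s ≪≫ pushforwardCongr (IsIso.inv_hom_id s) ≪≫ pushforwardId Y)

/-- Pullback along an isomorphism is pushforward along the inverse. -/
def pullIsoPush (s : X ⟶ Y) [IsIso s] : pullback s ≅ pushforward (inv s) :=
  (pullbackPushforwardAdjunction s).leftAdjointUniq (pushEquiv s).symm.toAdjunction

/-- Pushforward along an isomorphism is left adjoint to pullback. -/
def pushPullAdj (s : X ⟶ Y) [IsIso s] : pushforward s ⊣ pullback s :=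
  (pushEquiv s).toAdjunction.ofNatIsoRight (pullIsoPush s).symm

/-- Base change along isomorphisms. -/
def pushSquareIso (f : X ⟶ Y) (f' : X' ⟶ Y') (t : X' ⟶ X) (s : Y' ⟶ Y) [IsIso t] [IsIso s]
    (h : t ≫ f = f' ≫ s) : pushforward f ⋙ pullback s ≅ pullback t ⋙ pushforward f' :=
  Functor.isoWhiskerLeft _ (pullIsoPush s) ≪≫ pushforwardComp f (inv s) ≪≫
    pushforwardCongr (by rw [IsIso.eq_inv_comp, ← Category.assoc, IsIso.comp_inv_eq]; exact h) ≪≫
    (pushforwardComp (inv t) f').symm ≪≫ Functor.isoWhiskerRight (pullIsoPush t).symm _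

theorem exact_of_isEquivalence (F : X.Modules ⥤ Y.Modules) [F.IsEquivalence] :
    PreservesFiniteLimits F ∧ PreservesFiniteColimits F := ⟨inferInstance, inferInstance⟩

theorem isEquivalence_push (s : X ⟶ Y) [IsIso s] : (pushforward s).IsEquivalence :=
  (pushEquiv s).isEquivalence_functor

theorem exact_pullback (f : X ⟶ Y) [Flat f] :
    PreservesFiniteLimits (pullback f) ∧ PreservesFiniteColimits (pullback f) := by
  haveI := RGLib.Lim8.preservesFiniteLimits_pullback f
  haveI := (pullbackPushforwardAdjunction f).isLeftAdjoint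
  exact ⟨inferInstance, inferInstance⟩

end Groth.Agent.AVFMTranslate
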